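import Mathlib

/-!
# Finite free covers over which generators split
-/

set_option autoImplicit false
set_option linter.style.haveILetI false

universe u

open CategoryTheory AlgebraicGeometry

namespace Groth.Agent.CompLift

/-- Over `A'`, every `Ω`-point of the finite algebra `B` lying over a domain takes values in that domain. -/
def Splitting {A A' B : CommRingCat.{u}} (φ : A ⟶ A') (σ : A ⟶ B) : Prop :=
  ∀ (D Ω : CommRingCat.{u}) [IsDomain D] [IsDomain Ω] (ρ : A' ⟶ D) (δ : D ⟶ Ω), Function.Injective δ →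
    ∀ ψ : B ⟶ Ω, σ ≫ ψ = φ ≫ ρ ≫ δ → ∃ θ : B ⟶ D, σ ≫ θ = φ ≫ ρ ∧ θ ≫ δ = ψ

theorem exists_splitting {A B : CommRingCat.{u}} (σ : A ⟶ B) (hσ : σ.hom.Finite) :
    ∃ (A' : CommRingCat.{u}) (φ : A ⟶ A'), φ.hom.Finite ∧ Surjective (Spec.map φ) ∧ Splitting φ σ := by
  classical
  rcases subsingleton_or_nontrivial A with hA | hA
  · refine ⟨A, 𝟙 A, RingHom.Finite.id A, ?_, ?_⟩
    · rw [Spec.map_id]; infer_instance
    · intro D Ω _ _ ρ δ _ ψ _
      exact absurd (show (1 : D) = 0 by rw [← map_one ρ.hom, Subsingleton.elim (1 : A) 0, map_zero]) one_ne_zero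
  algebraize [σ.hom]
  obtain ⟨s, hs⟩ := Module.Finite.fg_top (R := A) (M := B)
  let g : Polynomial A := ∏ b ∈ s, minpoly A b
  have hg : g.Monic := Polynomial.monic_prod_of_monic _ _ fun b _ => minpoly.monic (Algebra.IsIntegral.isIntegral b)
  have hg0 : ∀ b ∈ s, Polynomial.aeval b g = 0 := fun b hb => by
    rw [map_prod]
    exact Finset.prod_eq_zero hb (minpoly.aeval A b)
  obtain ⟨S, _, _, _, _, _, hS⟩ := hg.exists_splits_map
  refine ⟨CommRingCat.of S, CommRingCat.ofHom (algebraMap A S), RingHom.finite_algebraMap.mpr ‹_›,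
    ⟨PrimeSpectrum.comap_surjective_of_faithfullyFlat⟩, ?_⟩
  intro D Ω _ _ ρ δ hδ ψ hψ
  have key : ∀ b ∈ s, ψ b ∈ δ.hom.range := by
    intro b hb
    have hsplit : ((g.map (algebraMap A S)).map ρ.hom).Splits := hS.map _
    have hmap : (((g.map (algebraMap A S)).map ρ.hom).map δ.hom) = g.map (ψ.hom.comp (algebraMap A B)) := by
      rw [Polynomial.map_map, Polynomial.map_map]
      exact congrArg (fun i => g.map i) (congrArg CommRingCat.Hom.hom hψ).symm
    have hmon : ((g.map (algebraMap A S)).map ρ.hom).Monic := (hg.map _).map _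
    have hroot : (((g.map (algebraMap A S)).map ρ.hom).map δ.hom).IsRoot (ψ b) := by
      rw [hmap, Polynomial.IsRoot, Polynomial.eval_map, ← Polynomial.hom_eval₂]
      exact (congrArg ψ.hom (hg0 b hb)).trans (map_zero _)
    rw [← Polynomial.mem_roots ((hmon.map _).ne_zero), hsplit.roots_map_of_injective hδ, Multiset.mem_map] at hroot
    obtain ⟨d, -, hd⟩ := hroot
    exact ⟨d, hd⟩
  have hall : ∀ b : B, ψ b ∈ δ.hom.range := by
    intro b
    have hb : b ∈ Submodule.span A (s : Set B) := by rw [hs]; trivial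
    induction hb using Submodule.span_induction with
    | mem x hx => exact key x hx
    | zero => rw [map_zero]; exact δ.hom.range.zero_mem
    | add x y _ _ hx hy => rw [map_add]; exact δ.hom.range.add_mem hx hy
    | smul a x _ hx =>
      rw [Algebra.smul_def, map_mul]
      refine δ.hom.range.mul_mem ?_ hx
      exact ⟨ρ (algebraMap A S a), (congrArg (fun q : A ⟶ Ω => q a) hψ).symm⟩
  choose θ hθ using hall
  let θ' : B →+* D :=
    { toFun := θ
      map_one' := hδ (by show δ.hom (θ 1) = δ.hom 1; rw [hθ, map_one]; exact (map_one δ.hom).symm)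
      map_mul' := fun x y => hδ (by show δ.hom _ = δ.hom _; rw [hθ, map_mul, map_mul, hθ, hθ])
      map_zero' := hδ (by show δ.hom (θ 0) = δ.hom 0; rw [hθ, map_zero]; exact (map_zero δ.hom).symm)
      map_add' := fun x y => hδ (by show δ.hom _ = δ.hom _; rw [hθ, map_add, map_add, hθ, hθ]) }
  refine ⟨CommRingCat.ofHom θ', ?_, ?_⟩
  · ext a
    exact hδ ((hθ _).trans (congrArg (fun q : A ⟶ Ω => q a) hψ))
  · ext b
    exact hθ b

end Groth.Agent.CompLift
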