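import Groth.Agent.CompLift.Algebra
import Groth.Agent.S1376
import Mathlib

/-!
# Lifting irreducible components after a finite surjective base change
-/

set_option autoImplicit false
set_option linter.style.haveILetI false
set_option backward.isDefEq.respectTransparency false
set_option backward.isDefEq.respectTransparency.types false

universe u

open CategoryTheory CategoryTheory.Limits AlgebraicGeometry TopologicalSpace

namespace Groth.Agent.CompLift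

variable {Y F' : Scheme.{u}}

/-- `g` splits `t` over the affine open `U`. -/
def Splits (t : F' ⟶ Y) (U : Y.affineOpens) {Y' : Scheme.{u}} (g : Y' ⟶ Y) : Prop :=
  ∃ (A' : CommRingCat.{u}) (φ : Γ(Y, U.1) ⟶ A'), Splitting φ (t.app U.1) ∧
    ∃ w : (g ⁻¹ᵁ U.1 : Scheme.{u}) ⟶ Spec A', w ≫ Spec.map φ = (g ∣_ U.1) ≫ U.2.isoSpec.hom

theorem Splits.comp {t : F' ⟶ Y} {U : Y.affineOpens} {Y' Y'' : Scheme.{u}} {g : Y' ⟶ Y} (h : Splits t U g)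
    (f : Y'' ⟶ Y') : Splits t U (f ≫ g) := by
  obtain ⟨A', φ, hs, w, hw⟩ := h
  refine ⟨A', φ, hs, (f ∣_ g ⁻¹ᵁ U.1) ≫ w, ?_⟩
  rw [Category.assoc, hw, morphismRestrict_comp, Category.assoc]

theorem exists_splits [CompactSpace Y] [QuasiSeparatedSpace Y] (t : F' ⟶ Y) [IsFinite t] (U : Y.affineOpens) :
    ∃ (Y' : Scheme.{u}) (g : Y' ⟶ Y), IsFinite g ∧ Surjective g ∧ Splits t U g := by
  obtain ⟨A', φ, hfin, hsurj, hsplit⟩ := exists_splitting (t.app U.1) (IsFinite.finite_app (f := t) U.1 U.2)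
  haveI : IsFinite (Spec.map φ) := (IsFinite.SpecMap_iff (f := φ)).mpr hfin
  haveI := hsurj
  obtain ⟨V', π, i, hπs, hπf, hi⟩ :=
    Groth.Agent.S1376.result U.1 U.2.isCompact (Spec.map φ ≫ U.2.isoSpec.inv)
  refine ⟨V', π, hπf, hπs, A', φ, hsplit, hi.lift (π ⁻¹ᵁ U.1).ι (π ∣_ U.1) (morphismRestrict_ι π U.1).symm, ?_⟩
  rw [← cancel_mono U.2.isoSpec.inv, Category.assoc, Category.assoc, IsPullback.lift_snd, Iso.hom_inv_id,
    Category.comp_id]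

theorem exists_splits_all [CompactSpace Y] [QuasiSeparatedSpace Y] (t : F' ⟶ Y) [IsFinite t]
    (S : Finset Y.affineOpens) :
    ∃ (Y' : Scheme.{u}) (g : Y' ⟶ Y), IsFinite g ∧ Surjective g ∧ ∀ U ∈ S, Splits t U g := by
  classical
  induction S using Finset.induction_on with
  | empty => exact ⟨Y, 𝟙 Y, inferInstance, inferInstance, fun U hU => absurd hU (Finset.notMem_empty U)⟩
  | insert a S ha ih =>
    obtain ⟨Y₁, g₁, hf₁, hs₁, h₁⟩ := ih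
    obtain ⟨Y₂, g₂, hf₂, hs₂, h₂⟩ := exists_splits t a
    refine ⟨pullback g₁ g₂, pullback.fst g₁ g₂ ≫ g₁, inferInstance, inferInstance, fun U hU => ?_⟩
    rcases Finset.mem_insert.1 hU with rfl | hU
    · rw [pullback.condition]; exact h₂.comp _
    · exact (h₁ U hU).comp _

theorem exists_section {Ω : Type u} [Field Ω] [IsAlgClosed Ω] {P : Scheme.{u}} [Nonempty P]
    (p : P ⟶ Spec (CommRingCat.of Ω)) [IsFinite p] : ∃ x : Spec (CommRingCat.of Ω) ⟶ P, x ≫ p = 𝟙 _ := by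
  haveI : IsAffine P := isAffine_of_isAffineHom p
  obtain ⟨ψ, hψ⟩ := Spec.map_surjective (P.isoSpec.inv ≫ p)
  haveI : IsFinite (Spec.map ψ) := by rw [hψ]; infer_instance
  have hfin : ψ.hom.Finite := (IsFinite.SpecMap_iff (f := ψ)).mp ‹_›
  algebraize [ψ.hom]
  haveI : Nontrivial Γ(P, ⊤) :=
    PrimeSpectrum.nonempty_iff_nontrivial.mp (Nonempty.map (fun z => P.isoSpec.hom z) ‹Nonempty P›)
  obtain ⟨m, hm⟩ := Ideal.exists_maximal Γ(P, ⊤)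
  haveI := hm
  letI := Ideal.Quotient.field m
  haveI : Algebra.IsIntegral Ω (Γ(P, ⊤) ⧸ m) := Algebra.IsIntegral.of_finite _ _
  have hb := IsAlgClosed.algebraMap_bijective_of_isIntegral (k := Ω) (K := Γ(P, ⊤) ⧸ m)
  let e : Ω ≃+* Γ(P, ⊤) ⧸ m := RingEquiv.ofBijective _ hb
  let χ : Γ(P, ⊤) ⟶ CommRingCat.of Ω := CommRingCat.ofHom (e.symm.toRingHom.comp (Ideal.Quotient.mk m))
  refine ⟨Spec.map χ ≫ P.isoSpec.inv, ?_⟩
  rw [Category.assoc, ← hψ, ← Spec.map_comp, show ψ ≫ χ = 𝟙 _ from ?_, Spec.map_id]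
  ext x
  exact e.symm_apply_apply x

theorem isDominant_of_comp {W G T : Scheme.{u}} (f : W ⟶ G) [IsOpenImmersion f] (x : T ⟶ W) [IsDominant (x ≫ f)] :
    IsDominant x := by
  refine ⟨(((x ≫ f).denseRange).preimage f.isOpenEmbedding.isOpenMap).mono ?_⟩
  rintro w ⟨z, hz⟩
  exact ⟨z, f.isOpenEmbedding.injective hz⟩

theorem exists_lift_affine {G : Scheme.{u}} [IsIntegral G] (t : F' ⟶ Y) [IsAffineHom t] (e : G ⟶ Y) [IsAffineHom e]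
    (U : Y.affineOpens) [Nonempty (e ⁻¹ᵁ U.1 : Scheme.{u})] {A' : CommRingCat.{u}} {φ : Γ(Y, U.1) ⟶ A'}
    (hs : Splitting φ (t.app U.1)) (w : (e ⁻¹ᵁ U.1 : Scheme.{u}) ⟶ Spec A')
    (hw : w ≫ Spec.map φ = (e ∣_ U.1) ≫ U.2.isoSpec.hom) {Ω : CommRingCat.{u}} [IsDomain Ω]
    (x : Spec Ω ⟶ (e ⁻¹ᵁ U.1 : Scheme.{u})) [IsDominant x] (y : Spec Ω ⟶ (t ⁻¹ᵁ U.1 : Scheme.{u}))
    (hxy : y ≫ (t ∣_ U.1) = x ≫ (e ∣_ U.1)) :
    ∃ θ : (e ⁻¹ᵁ U.1 : Scheme.{u}) ⟶ (t ⁻¹ᵁ U.1 : Scheme.{u}), θ ≫ (t ∣_ U.1) = e ∣_ U.1 ∧ x ≫ θ = y := by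
  have hG : IsAffineOpen (e ⁻¹ᵁ U.1) := U.2.preimage e
  have hF : IsAffineOpen (t ⁻¹ᵁ U.1) := U.2.preimage t
  haveI : Nonempty (e ⁻¹ᵁ U.1 : G.Opens) := ‹Nonempty (e ⁻¹ᵁ U.1 : Scheme.{u})›
  obtain ⟨ρ, hρ⟩ := Spec.map_surjective (hG.isoSpec.inv ≫ w)
  obtain ⟨δ, hδ⟩ := Spec.map_surjective (x ≫ hG.isoSpec.hom)
  obtain ⟨ψ, hψ⟩ := Spec.map_surjective (y ≫ hF.isoSpec.hom)
  have het : (e ∣_ U.1) ≫ U.2.isoSpec.hom = hG.isoSpec.hom ≫ Spec.map (e.app U.1) := by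
    rw [U.2.isoSpec_hom, hG.isoSpec_hom]; exact (Scheme.Opens.toSpecΓ_naturality e U.1).symm
  have hft : (t ∣_ U.1) ≫ U.2.isoSpec.hom = hF.isoSpec.hom ≫ Spec.map (t.app U.1) := by
    rw [U.2.isoSpec_hom, hF.isoSpec_hom]; exact (Scheme.Opens.toSpecΓ_naturality t U.1).symm
  have hφρ : φ ≫ ρ = e.app U.1 := Spec.map_injective (by
    rw [Spec.map_comp, hρ, Category.assoc, hw, het, Iso.inv_hom_id_assoc])
  have hδi : Function.Injective δ := by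
    haveI : IsDominant (Spec.map δ) := by rw [hδ]; infer_instance
    have h := PrimeSpectrum.denseRange_comap_iff_ker_le_nilRadical δ.hom |>.mp (Spec.map δ).denseRange
    rw [show nilradical Γ(G, e ⁻¹ᵁ U.1) = ⊥ from nilradical_eq_zero _, le_bot_iff] at h
    exact (RingHom.injective_iff_ker_eq_bot _).mpr h
  obtain ⟨θ, hθ1, hθ2⟩ := hs _ Ω ρ δ hδi ψ (by
    rw [← Category.assoc φ, hφρ]
    refine Spec.map_injective ?_
    rw [Spec.map_comp, Spec.map_comp, hψ, hδ, Category.assoc, Category.assoc, ← hft, ← het, ← Category.assoc,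
      hxy, Category.assoc])
  refine ⟨hG.isoSpec.hom ≫ Spec.map θ ≫ hF.isoSpec.inv, ?_, ?_⟩
  · rw [← cancel_mono U.2.isoSpec.hom]
    simp only [Category.assoc, hft, het, Iso.inv_hom_id_assoc]
    rw [← Spec.map_comp, hθ1, hφρ]
  · rw [← cancel_mono hF.isoSpec.hom]
    simp only [Category.assoc, Iso.inv_hom_id, Category.comp_id]
    rw [← Category.assoc, ← hδ, ← Spec.map_comp, hθ2, hψ]

theorem exists_lift {G F Y' : Scheme.{u}} [IsIntegral G] (i : F ⟶ Y) [IsClosedImmersion i] (s : F' ⟶ F) [IsFinite s]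
    [Surjective s] (S : Finset Y.affineOpens) (hS : ∀ y : Y, ∃ U ∈ S, y ∈ U.1) (g : Y' ⟶ Y)
    (hg : ∀ U ∈ S, Splits (s ≫ i) U g) (q : G ⟶ F) (r : G ⟶ Y') (hqr : q ≫ i = r ≫ g) [IsAffineHom (r ≫ g)] :
    ∃ φ : G ⟶ F', φ ≫ s = q := by
  classical
  let η := genericPoint G
  let Ω := AlgebraicClosure (G.residueField η)
  let x₀ : Spec (CommRingCat.of Ω) ⟶ G :=
    Spec.map (CommRingCat.ofHom (algebraMap (G.residueField η) Ω)) ≫ G.fromSpecResidueField η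
  have hx₀ : ∀ z, x₀ z = η := fun z => G.fromSpecResidueField_apply η _
  haveI : IsDominant x₀ := ⟨by
    have hne : Nonempty (Spec (CommRingCat.of Ω)) := inferInstance
    obtain ⟨z₀⟩ := hne
    refine fun z => closure_mono (Set.singleton_subset_iff.mpr ⟨z₀, hx₀ z₀⟩ : ({η} : Set G) ⊆ Set.range x₀.base) ?_
    rw [(genericPoint_spec G).def]
    trivial⟩
  haveI : Nonempty (pullback s (x₀ ≫ q) : Scheme.{u}) := by
    obtain ⟨z₀⟩ := (inferInstance : Nonempty (Spec (CommRingCat.of Ω)))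
    obtain ⟨z, -⟩ := (pullback.snd s (x₀ ≫ q)).surjective z₀
    exact ⟨z⟩
  obtain ⟨σ, hσ⟩ := exists_section (pullback.snd s (x₀ ≫ q))
  let y₀ := σ ≫ pullback.fst s (x₀ ≫ q)
  have hy₀ : y₀ ≫ s = x₀ ≫ q := by
    simp only [y₀, Category.assoc, pullback.condition, reassoc_of% hσ]
  let J := {U : Y.affineOpens // U ∈ S ∧ (r ≫ g) η ∈ U.1}
  have hlift : ∀ U : J, ∃ θ : ((r ≫ g) ⁻¹ᵁ U.1.1 : Scheme.{u}) ⟶ F', θ ≫ s = ((r ≫ g) ⁻¹ᵁ U.1.1).ι ≫ q ∧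
      ∀ x : Spec (CommRingCat.of Ω) ⟶ ((r ≫ g) ⁻¹ᵁ U.1.1 : Scheme.{u}), x ≫ ((r ≫ g) ⁻¹ᵁ U.1.1).ι = x₀ → x ≫ θ = y₀ := by
    rintro ⟨U, hU, hηU⟩
    obtain ⟨A', φ, hs, w, hw⟩ := (hg U hU).comp r
    haveI : Nonempty ((r ≫ g) ⁻¹ᵁ U.1 : Scheme.{u}) := ⟨⟨η, hηU⟩⟩
    let x : Spec (CommRingCat.of Ω) ⟶ ((r ≫ g) ⁻¹ᵁ U.1 : Scheme.{u}) :=
      IsOpenImmersion.lift ((r ≫ g) ⁻¹ᵁ U.1).ι x₀ (by
        rw [Scheme.Opens.range_ι]; rintro _ ⟨z, rfl⟩; rw [hx₀]; exact hηU)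
    have hx : x ≫ ((r ≫ g) ⁻¹ᵁ U.1).ι = x₀ := IsOpenImmersion.lift_fac _ _ _
    haveI : IsDominant (x ≫ ((r ≫ g) ⁻¹ᵁ U.1).ι) := by rw [hx]; infer_instance
    haveI := isDominant_of_comp ((r ≫ g) ⁻¹ᵁ U.1).ι x
    have hyt : y₀ ≫ (s ≫ i) = x₀ ≫ (r ≫ g) := by rw [← Category.assoc, hy₀, Category.assoc, hqr]
    let y : Spec (CommRingCat.of Ω) ⟶ ((s ≫ i) ⁻¹ᵁ U.1 : Scheme.{u}) :=
      IsOpenImmersion.lift ((s ≫ i) ⁻¹ᵁ U.1).ι y₀ (by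
        rw [Scheme.Opens.range_ι]; rintro _ ⟨z, rfl⟩
        show (y₀ ≫ (s ≫ i)) z ∈ U.1
        rw [hyt, Scheme.Hom.comp_apply, hx₀]; exact hηU)
    have hy : y ≫ ((s ≫ i) ⁻¹ᵁ U.1).ι = y₀ := IsOpenImmersion.lift_fac _ _ _
    obtain ⟨θ, hθ1, hθ2⟩ := exists_lift_affine (s ≫ i) (r ≫ g) U hs w hw x y (by
      rw [← cancel_mono U.1.ι, Category.assoc, Category.assoc, morphismRestrict_ι, morphismRestrict_ι,
        ← Category.assoc y, hy, ← Category.assoc x, hx, hyt])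
    refine ⟨θ ≫ ((s ≫ i) ⁻¹ᵁ U.1).ι, ?_, fun x' hx' => ?_⟩
    · rw [← cancel_mono i, Category.assoc, Category.assoc, Category.assoc, hqr, ← morphismRestrict_ι (s ≫ i),
        ← Category.assoc θ, hθ1, morphismRestrict_ι]
    · rw [show x' = x by rw [← cancel_mono ((r ≫ g) ⁻¹ᵁ U.1).ι, hx, hx'], ← Category.assoc, hθ2, hy]
  choose θ hθs hθx using hlift
  have hcov : IsOpenCover fun U : J => (r ≫ g) ⁻¹ᵁ U.1.1 := by
    refine IsOpenCover.mk (Opens.ext (Set.eq_univ_of_forall fun z => ?_))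
    obtain ⟨U, hU, hz⟩ := hS ((r ≫ g) z)
    exact Opens.mem_iSup.mpr ⟨⟨U, hU, (genericPoint_specializes z).mem_open ((r ≫ g) ⁻¹ᵁ U.1).2 hz⟩, hz⟩
  let 𝒰 := G.openCoverOfIsOpenCover _ hcov
  let φ := 𝒰.glueMorphisms θ fun U V => by
    let p₁ := pullback.fst (𝒰.f U) (𝒰.f V)
    let p₂ := pullback.snd (𝒰.f U) (𝒰.f V)
    let jU : Spec (CommRingCat.of Ω) ⟶ 𝒰.X U := IsOpenImmersion.lift (𝒰.f U) x₀ (by
      rintro _ ⟨z, rfl⟩; rw [hx₀]; exact ⟨⟨η, U.2.2⟩, rfl⟩)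
    let jV : Spec (CommRingCat.of Ω) ⟶ 𝒰.X V := IsOpenImmersion.lift (𝒰.f V) x₀ (by
      rintro _ ⟨z, rfl⟩; rw [hx₀]; exact ⟨⟨η, V.2.2⟩, rfl⟩)
    have hjU : jU ≫ 𝒰.f U = x₀ := IsOpenImmersion.lift_fac _ _ _
    have hjV : jV ≫ 𝒰.f V = x₀ := IsOpenImmersion.lift_fac _ _ _
    let j := pullback.lift jU jV (hjU.trans hjV.symm)
    haveI : IsDominant (j ≫ p₁ ≫ 𝒰.f U) := by
      rw [← Category.assoc, pullback.lift_fst, hjU]; infer_instance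
    haveI := isDominant_of_comp (p₁ ≫ 𝒰.f U) j
    haveI : IsReduced (pullback (𝒰.f U) (𝒰.f V)) := isReduced_of_isOpenImmersion (p₁ ≫ 𝒰.f U)
    refine ext_of_isDominant_of_isSeparated s ?_ j ?_
    · rw [Category.assoc, Category.assoc, hθs, hθs]
      show p₁ ≫ 𝒰.f U ≫ q = p₂ ≫ 𝒰.f V ≫ q
      rw [← Category.assoc, ← Category.assoc p₂, pullback.condition]
    · rw [← Category.assoc, ← Category.assoc, pullback.lift_fst, pullback.lift_snd, hθx U jU hjU, hθx V jV hjV]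
  refine ⟨φ, 𝒰.hom_ext _ _ fun U => ?_⟩
  rw [← Category.assoc, Scheme.Cover.ι_glueMorphisms, hθs]
  rfl

end Groth.Agent.CompLift
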